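import Groth.Agent.GrpAct.KleimanSmooth
import Groth.Agent.GrpAct.DimClosed
import Groth.Agent.GrpAct.Stabilizer
import Groth.Agent.FpqcDescent.Affine
import Groth.Agent.GenFree.Scheme
import Groth.Agent.LocalDimBC.Scheme
import Groth.Agent.CMChart.OverField
import Groth.Agent.FBaseDim.Product
import Groth.Agent.DimField.Cons
import Groth.Agent.GrpField.Irreducible
import Groth.Agent.Chev.CentCover
import Groth.Agent.GITss.StabDim

/-!
Kleiman: general translates in a homogeneous space meet properly.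
-/

set_option autoImplicit false
set_option backward.isDefEq.respectTransparency false
set_option linter.style.haveILetI false
set_option linter.unusedSectionVars false

universe u

open CategoryTheory CategoryTheory.Limits MonoidalCategory CartesianMonoidalCategory MonObj AlgebraicGeometry TopologicalSpace
open Groth.Agent.SubGen (rpt exists_rpt map_rpt rpt_mem_closedPoints)
open Groth.Agent

noncomputable section

namespace Groth.Agent.AgfKleiman

variable {k : Type u} [Field k] [IsAlgClosed k]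

theorem isClosed_map {Z W : Over (Spec (CommRingCat.of k))} [LocallyOfFiniteType Z.hom]
    [LocallyOfFiniteType W.hom] (f : Z ⟶ W) {z : Z.left} (hz : IsClosed ({z} : Set Z.left)) :
    IsClosed ({f.left z} : Set W.left) := by
  obtain ⟨q, rfl⟩ := exists_rpt (mem_closedPoints_iff.2 hz)
  rw [map_rpt]
  exact mem_closedPoints_iff.1 (rpt_mem_closedPoints _)

theorem dim_stalk_opens {Z : Scheme.{u}} (U : Z.Opens) (x : U) :
    ringKrullDim ((U : Scheme).presheaf.stalk x) = ringKrullDim (Z.presheaf.stalk (U.ι x)) :=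
  (ringKrullDim_eq_of_ringEquiv (asIso (U.ι.stalkMap x)).commRingCatIsoToRingEquiv).symm

/-- A scheme all whose closed points have fibre dimension `D` is equidimensional. -/
theorem dim_component {F : Scheme.{u}} (q : F ⟶ Spec (CommRingCat.of k)) [LocallyOfFiniteType q] (D : ℕ)
    (h : ∀ z : F, IsClosed ({z} : Set F) → FlatMor.fibreDimAt q z = (D : WithBot ℕ∞))
    (C : Set F) (hC : C ∈ irreducibleComponents F) : topologicalKrullDim ↥C = (D : WithBot ℕ∞) := by
  haveI : JacobsonSpace F := LocallyOfFiniteType.jacobsonSpace q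
  obtain ⟨ζ, hζ⟩ := QuasiSober.sober hC.1 (isClosed_of_mem_irreducibleComponents C hC)
  have hmax : Unibranch.IsMaxPt ζ := by
    intro w hw
    have hsub : C ⊆ closure {w} := by
      rw [← hζ.def]
      exact closure_minimal (Set.singleton_subset_iff.mpr hw.mem_closure) isClosed_closure
    have hwC : w ∈ C := hC.2 isIrreducible_singleton.closure hsub (subset_closure rfl)
    exact (Specializes.antisymm hw (hζ.specializes hwC)).eq
  rw [← hζ.def, LocalDimBC.topologicalKrullDim_closure_eq q ζ hmax, ← CMChart.fibreDimAt_eq_localDim q]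
  obtain ⟨e, he⟩ := Unibranch.exists_fibreDimAt_eq q ζ
  have h1 : (D : WithBot ℕ∞) ≤ FlatMor.fibreDimAt q ζ := by
    by_contra hn
    obtain ⟨z, hz, hzc⟩ := nonempty_inter_closedPoints (Z := {z | (D : WithBot ℕ∞) ≤ FlatMor.fibreDimAt q z}ᶜ)
      ⟨ζ, hn⟩ (DimField.isClosed_le_fibreDimAt q D).isOpen_compl.isLocallyClosed
    exact hz (h z (mem_closedPoints_iff.1 hzc)).ge
  have h2 : ¬ ((D + 1 : ℕ) : WithBot ℕ∞) ≤ FlatMor.fibreDimAt q ζ := fun hp => by
    obtain ⟨z, hz, hzc⟩ := nonempty_inter_closedPoints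
      (Z := {z | ((D + 1 : ℕ) : WithBot ℕ∞) ≤ FlatMor.fibreDimAt q z})
      ⟨ζ, hp⟩ (DimField.isClosed_le_fibreDimAt q (D + 1)).isLocallyClosed
    rw [Set.mem_ofPred_eq, h z (mem_closedPoints_iff.1 hzc)] at hz
    exact absurd (by exact_mod_cast hz : D + 1 ≤ D) (by omega)
  rw [he] at h1 h2 ⊢
  have h1' : D ≤ e := by exact_mod_cast h1
  have h2' : ¬ D + 1 ≤ e := fun hh => h2 (by exact_mod_cast hh)
  exact_mod_cast le_antisymm (by omega : e ≤ D) h1'

variable [CharZero k] {G X : Over (Spec (CommRingCat.of k))} [GrpObj G] (a : AlgGrp.Action G X)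
  [IsIntegral G.left] [IsSeparated G.hom] [LocallyOfFiniteType G.hom] [QuasiCompact G.hom]
  [IsIntegral X.left] [IsSeparated X.hom] [LocallyOfFiniteType X.hom] [QuasiCompact X.hom]
  (htrans : ∀ y y' : 𝟙_ (Over (Spec (CommRingCat.of k))) ⟶ X,
    ∃ σ : 𝟙_ (Over (Spec (CommRingCat.of k))) ⟶ G, lift σ y ≫ a.act = y')

include htrans in
/-- The family of translates of any scheme is flat over a homogeneous space. -/
theorem flat_translateFamily {Y : Over (Spec (CommRingCat.of k))} (f : Y ⟶ X) :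
    Flat (GrpAct.translateFamily a f).left := by
  haveI : JacobsonSpace X.left := LocallyOfFiniteType.jacobsonSpace X.hom
  obtain ⟨c, -, hc⟩ := nonempty_inter_closedPoints (Z := (Set.univ : Set X.left)) Set.univ_nonempty
    isOpen_univ.isLocallyClosed
  obtain ⟨x, -⟩ := exists_rpt hc
  haveI hπ := GrpAct.smooth_orbitMap a htrans x
  haveI := GrpAct.surjective_orbitMap a htrans x
  haveI : LocallyOfFiniteType ((a.orbitMap x).left ≫ X.hom) := by rw [Over.w]; infer_instance
  haveI : QuasiCompact ((a.orbitMap x).left ≫ X.hom) := by rw [Over.w]; infer_instance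
  haveI : QuasiCompact (a.orbitMap x).left := QuasiCompact.of_comp (a.orbitMap x).left X.hom
  have hsq := (GrpAct.isPullback_translateFamily a x f).map (Over.forget _)
  refine MorphismProperty.of_isPullback_of_descendsAlong (P := @Flat)
    (Q := @Surjective ⊓ @Flat ⊓ @QuasiCompact) hsq.flip
    ⟨⟨(inferInstance : Surjective (a.orbitMap x).left), (inferInstance : Flat (a.orbitMap x).left)⟩,
      (inferInstance : QuasiCompact (a.orbitMap x).left)⟩ ?_
  show Flat ((GrpAct.shearBy (GrpAct.orbitPullGrp a x f)).hom ≫ fst G _).left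
  rw [Over.comp_left]
  haveI : IsIso (GrpAct.shearBy (GrpAct.orbitPullGrp a x f)).hom.left :=
    ((Over.forget _).mapIso (GrpAct.shearBy (GrpAct.orbitPullGrp a x f))).isIso_hom
  haveI : Flat (fst G (GrpAct.orbitPull a x f)).left := by
    rw [Over.fst_left]
    exact MorphismProperty.pullback_fst (P := @Flat) _ _ inferInstance
  infer_instance

theorem exists_scheme_of_closed {A : Set X.left} (hA : IsClosed A) (hi : IsIrreducible A) :
    ∃ (Y : Over (Spec (CommRingCat.of k))) (j : Y ⟶ X), IsClosedImmersion j.left ∧ IrreducibleSpace Y.left ∧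
      LocallyOfFiniteType Y.hom ∧ QuasiCompact Y.hom ∧ Set.range j.left = A ∧
      topologicalKrullDim Y.left = topologicalKrullDim ↥A := by
  obtain ⟨O, j, hj, -, hr⟩ := GrpAct.exists_reduced_subscheme (A := A) hA.isLocallyClosed
  haveI : IsClosedImmersion j := IsClosedImmersion.of_isPreimmersion j (hr ▸ hA)
  let e : O ≃ₜ ↥A := j.isClosedEmbedding.isEmbedding.toHomeomorph.trans (Homeomorph.setCongr hr)
  refine ⟨Over.mk (j ≫ X.hom), Over.homMk j, ‹_›, ?_, inferInstanceAs (LocallyOfFiniteType (j ≫ X.hom)),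
    inferInstanceAs (QuasiCompact (j ≫ X.hom)), hr, e.isHomeomorph.topologicalKrullDim_eq⟩
  haveI : IrreducibleSpace ↥A := Subtype.irreducibleSpace hi
  haveI : Nonempty ↥A := hi.nonempty.to_subtype
  haveI : Nonempty (Over.mk (j ≫ X.hom)).left := ⟨e.symm (Classical.arbitrary ↥A)⟩
  haveI : PreirreducibleSpace (Over.mk (j ≫ X.hom)).left :=
    ⟨by
      have := (IrreducibleSpace.isIrreducible_univ ↥A).2.image e.symm e.symm.continuous.continuousOn
      rwa [Set.image_univ, e.symm.surjective.range_eq] at this⟩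
  exact ⟨inferInstance⟩

include htrans in
theorem translate_inter_equidim (Y₁ Y₂ : Set ↥X.left) (h₁c : IsClosed Y₁) (h₁i : IsIrreducible Y₁)
    (h₂c : IsClosed Y₂) (h₂i : IsIrreducible Y₂)
    (n r s : ℕ) (hn : topologicalKrullDim ↥X.left = n) (hr : topologicalKrullDim ↥Y₁ = r)
    (hs : topologicalKrullDim ↥Y₂ = s) :
    ∃ V : G.left.Opens, (V : Set ↥G.left).Nonempty ∧
      ∀ σ : 𝟙_ (Over (Spec (CommRingCat.of k))) ⟶ G, Set.range ⇑σ.left.base ⊆ (V : Set ↥G.left) →
        ⇑(lift (toUnit X ≫ σ) (𝟙 X) ≫ a.act).left.base '' Y₁ ∩ Y₂ = ∅ ∨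
        (n ≤ r + s ∧ ∀ C ∈ irreducibleComponents
            ↥(⇑(lift (toUnit X ≫ σ) (𝟙 X) ≫ a.act).left.base '' Y₁ ∩ Y₂),
          topologicalKrullDim ↥C = ((r + s - n : ℕ) : WithBot ℕ∞)) := by
  obtain ⟨A, j₁, hj₁, hAi, hAlft, hAqc, hAr, hAd⟩ := exists_scheme_of_closed h₁c h₁i
  obtain ⟨B, j₂, hj₂, hBi, hBlft, hBqc, hBr, hBd⟩ := exists_scheme_of_closed h₂c h₂i
  rw [hr] at hAd; rw [hs] at hBd
  haveI : IrreducibleSpace G.left := inferInstance
  haveI : ConnectedSpace G.left := inferInstance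
  haveI : GeometricallyIrreducible G.hom := GrpField.geometricallyIrreducible_of_connected G
  obtain ⟨g, hg⟩ := GITss.exists_dim_eq (G := G)
  haveI : IrreducibleSpace (G ⊗ A).left := by
    haveI : GeometricallyIrreducible (pullback.snd G.hom A.hom) :=
      MorphismProperty.pullback_snd (P := @GeometricallyIrreducible) _ _ ‹_›
    exact GeometricallyIrreducible.irreducibleSpace (pullback.snd G.hom A.hom)
      (pullback.snd G.hom A.hom).isOpenMap
  haveI : LocallyOfFiniteType (G ⊗ A).hom := by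
    show LocallyOfFiniteType (pullback.fst G.hom A.hom ≫ G.hom)
    infer_instance
  haveI : QuasiCompact (G ⊗ A).hom := by
    show QuasiCompact (pullback.fst G.hom A.hom ≫ G.hom)
    infer_instance
  have hPd : topologicalKrullDim (G ⊗ A).left = ((g + r : ℕ) : WithBot ℕ∞) := by
    show topologicalKrullDim ↥(pullback G.hom A.hom) = _
    rw [FBaseDim.topologicalKrullDim_prod, hg, hAd, Nat.cast_add]
  let ψ := GrpAct.translateFamily a j₁
  haveI hψ : Flat ψ.left := flat_translateFamily a htrans j₁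
  haveI : IsLocallyNoetherian X.left := LocallyOfFiniteType.isLocallyNoetherian X.hom
  haveI : IsLocallyNoetherian B.left := LocallyOfFiniteType.isLocallyNoetherian B.hom
  haveI : LocallyOfFiniteType ψ.left := by
    haveI : LocallyOfFiniteType (ψ.left ≫ X.hom) := by rw [Over.w]; infer_instance
    exact locallyOfFiniteType_of_comp ψ.left X.hom
  -- the incidence scheme
  let W : Over (Spec (CommRingCat.of k)) := Over.mk (pullback.fst ψ.left j₂.left ≫ (G ⊗ A).hom)
  let wP : W ⟶ G ⊗ A := Over.homMk (pullback.fst ψ.left j₂.left) rfl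
  let wB : W ⟶ B := Over.homMk (pullback.snd ψ.left j₂.left) (by
    show pullback.snd ψ.left j₂.left ≫ B.hom = pullback.fst ψ.left j₂.left ≫ (G ⊗ A).hom
    rw [← Over.w j₂, ← pullback.condition_assoc, Over.w])
  have hW : IsPullback wP.left wB.left ψ.left j₂.left := IsPullback.of_hasPullback ψ.left j₂.left
  haveI : IsClosedImmersion wP.left := MorphismProperty.of_isPullback (P := @IsClosedImmersion) hW.flip hj₂
  haveI : LocallyOfFiniteType W.hom := by
    rw [← Over.w wP]; infer_instance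
  haveI : QuasiCompact W.hom := by
    rw [← Over.w wP]; infer_instance
  haveI : Flat wB.left := MorphismProperty.of_isPullback (P := @Flat) hW hψ
  haveI : LocallyOfFiniteType wB.left := MorphismProperty.of_isPullback (P := @LocallyOfFiniteType) hW inferInstance
  have hWd : ∀ w : W.left, IsClosed ({w} : Set W.left) → ∃ d : ℕ,
      ringKrullDim (W.left.presheaf.stalk w) = (d : WithBot ℕ∞) ∧ d + n = g + r + s := by
    intro w hw
    obtain ⟨i, j, hi, hj, hij⟩ := GrpAct.dim_stalk_eq_add_fibreDimAt wB.left w hw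
    obtain ⟨i', j', hi', hj', hij'⟩ :=
      GrpAct.dim_stalk_eq_add_fibreDimAt ψ.left (wP.left w) (isClosed_map wP hw)
    rw [GrpAct.dim_stalk_closed_eq B.hom _ (isClosed_map wB hw), hBd, Nat.cast_inj] at hi
    rw [GrpAct.dim_stalk_closed_eq X.hom _ (isClosed_map ψ (isClosed_map wP hw)), hn, Nat.cast_inj] at hi'
    rw [GrpAct.dim_stalk_closed_eq (G ⊗ A).hom _ (isClosed_map wP hw), hPd, Nat.cast_inj] at hij'
    rw [LocalDimBC.fibreDimAt_of_isPullback ψ.left j₂.left wP.left wB.left hW w, hj', Nat.cast_inj] at hj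
    exact ⟨i + j, hij, by omega⟩
  -- generic flatness over the group
  let ρ : W ⟶ G := wP ≫ fst G A
  haveI : LocallyOfFiniteType (ρ.left ≫ G.hom) := by rw [Over.w]; infer_instance
  haveI : LocallyOfFiniteType ρ.left := locallyOfFiniteType_of_comp ρ.left G.hom
  haveI : QuasiCompact (ρ.left ≫ G.hom) := by rw [Over.w]; infer_instance
  haveI : QuasiCompact ρ.left := QuasiCompact.of_comp ρ.left G.hom
  obtain ⟨U, hUd, hUflat, -⟩ := GenFree.exists_dense_flat_fp ρ.left
  haveI := hUflat
  refine ⟨U, hUd.nonempty, fun σ hσ => ?_⟩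
  set tσ := lift (toUnit X ≫ σ) (𝟙 X) ≫ a.act
  -- the fibre
  let F : Over (Spec (CommRingCat.of k)) := Over.mk (pullback.fst (j₁ ≫ tσ).left j₂.left ≫ A.hom)
  let fA : F ⟶ A := Over.homMk (pullback.fst (j₁ ≫ tσ).left j₂.left) rfl
  let fB : F ⟶ B := Over.homMk (pullback.snd (j₁ ≫ tσ).left j₂.left) (by
    show pullback.snd (j₁ ≫ tσ).left j₂.left ≫ B.hom = pullback.fst (j₁ ≫ tσ).left j₂.left ≫ A.hom
    rw [← Over.w j₂, ← pullback.condition_assoc, Over.w])
  have hF : IsPullback fA.left fB.left (j₁ ≫ tσ).left j₂.left := IsPullback.of_hasPullback _ _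
  haveI : IsClosedImmersion fA.left := MorphismProperty.of_isPullback (P := @IsClosedImmersion) hF.flip hj₂
  haveI : LocallyOfFiniteType F.hom := by
    rw [← Over.w fA]; infer_instance
  let sl : A ⟶ G ⊗ A := lift (toUnit A ≫ σ) (𝟙 A)
  have hsl : IsPullback sl (toUnit A) (fst G A) σ := by
    refine ⟨⟨lift_fst _ _⟩, ⟨PullbackCone.IsLimit.mk _ (fun c => c.fst ≫ snd G A) ?_
      (fun c => toUnit_unique _ _) ?_⟩⟩
    · intro c
      apply CartesianMonoidalCategory.hom_ext
      · rw [Category.assoc, Category.assoc, lift_fst, c.condition, ← Category.assoc, ← Category.assoc,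
          toUnit_unique (((c.fst ≫ snd G A) ≫ toUnit A)) c.snd]
      · simp [sl]
    · intro c m hm1 _
      rw [← hm1]
      simp [sl]
  have hcomp : sl ≫ ψ = j₁ ≫ tσ := by
    simp only [sl, ψ, tσ, GrpAct.comp_translateFamily, GrpAct.comp_smul, Category.id_comp, Category.comp_id]
    rw [← Category.assoc, toUnit_unique (j₁ ≫ toUnit X) (toUnit A)]
  let m : F ⟶ W := Over.homMk (pullback.lift (fA ≫ sl).left fB.left (by
      rw [← Over.comp_left, Category.assoc, hcomp]
      exact pullback.condition)) (by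
    show pullback.lift _ _ _ ≫ pullback.fst ψ.left j₂.left ≫ (G ⊗ A).hom = _
    rw [pullback.lift_fst_assoc, Over.w])
  have hm : IsPullback m.left fA.left wP.left sl.left := by
    refine IsPullback.of_right (h₁₂ := wB.left) (v₁₃ := j₂.left) (h₂₂ := ψ.left) ?_ ?_ hW.flip
    · rw [show m.left ≫ wB.left = fB.left from pullback.lift_snd _ _ _, ← Over.comp_left, hcomp]
      exact hF.flip
    · exact pullback.lift_fst _ _ _
  have hmρ : IsPullback m.left (fA.left ≫ (toUnit A).left) ρ.left σ.left :=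
    hm.paste_vert (hsl.map (Over.forget _))
  -- restrict to the flat locus
  have hσ' : Set.range σ.left ⊆ Set.range U.ι := by rw [U.range_ι]; exact hσ
  let σ' := IsOpenImmersion.lift U.ι σ.left hσ'
  have hσ'' : σ' ≫ U.ι = σ.left := IsOpenImmersion.lift_fac _ _ _
  have hres := (isPullback_morphismRestrict ρ.left U).flip
  let m' : F.left ⟶ (ρ.left ⁻¹ᵁ U : W.left.Opens) := hres.lift m.left ((fA.left ≫ (toUnit A).left) ≫ σ')
    (by rw [hmρ.w]; simp only [Category.assoc, hσ''])
  have hm' : IsPullback m' (fA.left ≫ (toUnit A).left) (ρ.left ∣_ U) σ' := by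
    refine IsPullback.of_right ?_ (hres.lift_snd _ _ _) hres
    rw [hres.lift_fst, hσ'']
    exact hmρ
  haveI : LocallyOfFiniteType ((ρ.left ⁻¹ᵁ U).ι ≫ W.hom) := inferInstance
  let WU : Over (Spec (CommRingCat.of k)) := Over.mk ((ρ.left ⁻¹ᵁ U).ι ≫ W.hom)
  let UO : Over (Spec (CommRingCat.of k)) := Over.mk (U.ι ≫ G.hom)
  let uW : WU ⟶ W := Over.homMk (ρ.left ⁻¹ᵁ U).ι rfl
  let uG : UO ⟶ G := Over.homMk U.ι rfl
  haveI : LocallyOfFiniteType UO.hom := inferInstanceAs (LocallyOfFiniteType (U.ι ≫ G.hom))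
  haveI : LocallyOfFiniteType WU.hom := ‹_›
  let mW : F ⟶ WU := Over.homMk m' (by
    show m' ≫ (ρ.left ⁻¹ᵁ U).ι ≫ W.hom = F.hom
    rw [← Category.assoc, hres.lift_fst, Over.w])
  let ρU : WU ⟶ UO := Over.homMk (ρ.left ∣_ U) (by
    show (ρ.left ∣_ U) ≫ U.ι ≫ G.hom = (ρ.left ⁻¹ᵁ U).ι ≫ W.hom
    rw [← Category.assoc, morphismRestrict_ι, Category.assoc, Over.w])
  haveI : IsLocallyNoetherian (U : Scheme.{u}) := LocallyOfFiniteType.isLocallyNoetherian UO.hom
  haveI : Subsingleton (Spec (CommRingCat.of k)) := inferInstanceAs (Subsingleton (PrimeSpectrum k))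
  have hfib : ∀ z : F.left, IsClosed ({z} : Set F.left) →
      ∃ d : ℕ, FlatMor.fibreDimAt F.hom z = (d : WithBot ℕ∞) ∧ d + n = r + s := by
    intro z hz
    obtain ⟨i, j, hi, hj, hij⟩ :=
      GrpAct.dim_stalk_eq_add_fibreDimAt (ρ.left ∣_ U) (m' z) (isClosed_map mW hz)
    obtain ⟨d, hd, hdn⟩ := hWd (uW.left (m' z)) (isClosed_map uW (isClosed_map mW hz))
    rw [dim_stalk_opens] at hi hij
    rw [show ringKrullDim (G.left.presheaf.stalk (U.ι ((ρ.left ∣_ U) (m' z)))) = (g : WithBot ℕ∞) from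
      (GrpAct.dim_stalk_closed_eq G.hom (U.ι ((ρ.left ∣_ U) (m' z)))
        (isClosed_map uG (isClosed_map ρU (isClosed_map mW hz)))).trans hg, Nat.cast_inj] at hi
    rw [show ringKrullDim (W.left.presheaf.stalk ((ρ.left ⁻¹ᵁ U).ι (m' z))) = (d : WithBot ℕ∞) from hd,
      Nat.cast_inj] at hij
    refine ⟨j, ?_, by omega⟩
    rw [show F.hom = fA.left ≫ (toUnit A).left from
        (Over.w (fA ≫ toUnit A)).symm.trans (Category.comp_id _)]
    exact (LocalDimBC.fibreDimAt_of_isPullback (ρ.left ∣_ U) σ' m' _ hm' z).trans hj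
  -- the fibre is the intersection
  have hrange : Set.range (fB ≫ j₂).left = ⇑tσ.left.base '' Y₁ ∩ Y₂ := by
    ext p
    constructor
    · rintro ⟨z, rfl⟩
      refine ⟨⟨j₁.left (fA.left z), hAr ▸ ⟨_, rfl⟩, ?_⟩, hBr ▸ ⟨fB.left z, rfl⟩⟩
      exact congrArg (fun f => f z) (pullback.condition (f := (j₁ ≫ tσ).left) (g := j₂.left))
    · rintro ⟨⟨q, hq, hqp⟩, hp⟩
      rw [← hAr] at hq; rw [← hBr] at hp
      obtain ⟨α, rfl⟩ := hq
      obtain ⟨β, rfl⟩ := hp
      obtain ⟨z, -, hz⟩ := Scheme.exists_preimage_of_isPullback hF α β hqp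
      exact ⟨z, congrArg j₂.left hz⟩
  haveI : IsClosedImmersion tσ.left := by
    let τ := lift (toUnit X ≫ σ⁻¹) (𝟙 X) ≫ a.act
    have h1 : ∀ c c' : 𝟙_ (Over (Spec (CommRingCat.of k))) ⟶ G, c' * c = 1 →
        (lift (toUnit X ≫ c) (𝟙 X) ≫ a.act) ≫ lift (toUnit X ≫ c') (𝟙 X) ≫ a.act = 𝟙 X := fun c c' h => by
      rw [GrpAct.comp_smul, Category.comp_id, ← Category.assoc _ (toUnit X), toUnit_unique (_ ≫ toUnit X) (toUnit X),
        ← GrpAct.mul_smul, ← MonObj.comp_mul, h, MonObj.comp_one, GrpAct.one_smul']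
    haveI : IsIso tσ.left := ((Over.forget _).mapIso
      ⟨tσ, τ, h1 _ _ (inv_mul_cancel σ), h1 _ _ (mul_inv_cancel σ)⟩).isIso_hom
    infer_instance
  haveI : IsClosedImmersion (j₁ ≫ tσ).left := by rw [Over.comp_left]; infer_instance
  haveI : IsClosedImmersion fB.left := MorphismProperty.of_isPullback (P := @IsClosedImmersion) hF inferInstance
  haveI : IsClosedImmersion (fB ≫ j₂).left := by rw [Over.comp_left]; infer_instance
  let e : F.left ≃ₜ ↥(⇑tσ.left.base '' Y₁ ∩ Y₂) :=
    (fB ≫ j₂).left.isClosedEmbedding.isEmbedding.toHomeomorph.trans (Homeomorph.setCongr hrange)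
  rcases Set.eq_empty_or_nonempty (⇑tσ.left.base '' Y₁ ∩ Y₂) with hE | hE
  · exact Or.inl hE
  · haveI := hE.to_subtype
    haveI : JacobsonSpace F.left := LocallyOfFiniteType.jacobsonSpace F.hom
    haveI : Nonempty F.left := ⟨e.symm (Classical.arbitrary _)⟩
    obtain ⟨z₀, -, hz₀⟩ := nonempty_inter_closedPoints (Z := (Set.univ : Set F.left)) Set.univ_nonempty
      isOpen_univ.isLocallyClosed
    obtain ⟨d, -, hd⟩ := hfib z₀ (mem_closedPoints_iff.1 hz₀)
    refine Or.inr ⟨by omega, fun C hC => ?_⟩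
    have hC' : e ⁻¹' C ∈ irreducibleComponents F.left := by
      refine ⟨?_, fun D hD hle => ?_⟩
      · rw [← e.image_symm]
        exact hC.1.image _ e.symm.continuous.continuousOn
      · have := hC.2 (hD.image _ e.continuous.continuousOn)
          (by rw [← e.image_preimage C]; exact Set.image_mono hle)
        exact Set.image_subset_iff.1 this
    rw [← (e.image (e ⁻¹' C)).trans (Homeomorph.setCongr (e.image_preimage C)) |>.isHomeomorph.topologicalKrullDim_eq]
    refine dim_component F.hom (r + s - n) (fun z hz => ?_) _ hC'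
    obtain ⟨d', hd', hd''⟩ := hfib z hz
    rw [hd', show d' = r + s - n by omega]

end Groth.Agent.AgfKleiman
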