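import Groth.Agent.AgfKleiman.Basic
import Groth.Agent.AgfOrbitDim.Basic
import Groth.Agent.GrpAct.OrbitFlat
import Groth.Agent.Chev.BorelTools
import Groth.Agent.S19416
import Groth.Agent.GrpBasic.Cartier

/-!
General translates meet properly when the strata of finitely many orbits are met properly.
-/

set_option autoImplicit false
set_option backward.isDefEq.respectTransparency false
set_option linter.style.haveILetI false
set_option linter.unusedSectionVars false

universe u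

open CategoryTheory CategoryTheory.Limits MonoidalCategory CartesianMonoidalCategory MonObj AlgebraicGeometry TopologicalSpace
open Groth.Agent.SubGen (rpt exists_rpt map_rpt rpt_mem_closedPoints rpt_injective)
open Groth.Agent.GrpAct (orbit actIso)
open Groth.Agent

noncomputable section

namespace Groth.Agent.AgfKleiman

variable {k : Type u} [Field k] [IsAlgClosed k]

theorem dim_closure_le_inter {Z : Over (Spec (CommRingCat.of k))} [LocallyOfFiniteType Z.hom] {L : Set Z.left}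
    (hL : IsLocallyClosed L) {p : Z.left} (hp : p ∈ L) :
    topologicalKrullDim ↥(closure ({p} : Set Z.left)) ≤ topologicalKrullDim ↥(closure ({p} : Set Z.left) ∩ L) := by
  haveI : Subsingleton (Spec (CommRingCat.of k)) := inferInstanceAs (Subsingleton (PrimeSpectrum k))
  have hfib : ∀ A : Set Z.left, topologicalKrullDim ↥A = topologicalKrullDim ↥(A ∩ Z.hom ⁻¹' {Z.hom p}) := by
    intro A
    rw [show A ∩ Z.hom ⁻¹' {Z.hom p} = A from Set.inter_eq_left.2 fun y _ =>
      Subsingleton.elim (α := Spec (CommRingCat.of k)) _ _]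
  refine Unibranch.le_of_forall_natCast_le fun m hm => ?_
  rw [hfib, Unibranch.natCast_le_topologicalKrullDim_inter_iff Z.hom isClosed_closure.isLocallyClosed] at hm
  rw [hfib, Unibranch.natCast_le_topologicalKrullDim_inter_iff Z.hom (isClosed_closure.isLocallyClosed.inter hL)]
  obtain ⟨U, C, hU, hC, rfl⟩ := hL
  refine (hm.of_specializes (U := ⟨U, hU⟩) specializes_rfl hp.1).mono fun y hy => ?_
  exact ⟨hy.2, hy.1, closure_minimal (Set.singleton_subset_iff.2 hp.2) hC hy.2⟩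

theorem irreducibleComponents_val {T : Type*} [TopologicalSpace T] {M : Set T} (hM : IsClosed M) {C : Set ↥M}
    (hC : C ∈ irreducibleComponents ↥M) :
    IsIrreducible (Subtype.val '' C) ∧ IsClosed (Subtype.val '' C) ∧ Subtype.val '' C ⊆ M ∧
      ∀ Z : Set T, IsIrreducible Z → Z ⊆ M → Subtype.val '' C ⊆ Z → Z ⊆ Subtype.val '' C := by
  refine ⟨hC.1.image _ continuous_subtype_val.continuousOn,
    hM.isClosedEmbedding_subtypeVal.isClosedMap _ (isClosed_of_mem_irreducibleComponents C hC),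
    Subtype.coe_image_subset M C, fun Z hZ hZM hCZ z hz => ?_⟩
  have hpre : IsIrreducible (Subtype.val ⁻¹' Z : Set ↥M) := by
    refine ⟨hZ.nonempty.elim fun w hw => ⟨⟨w, hZM hw⟩, hw⟩, ?_⟩
    rintro _ _ ⟨U, hU, rfl⟩ ⟨V, hV, rfl⟩ ⟨w, hw, hwU⟩ ⟨w', hw', hw'V⟩
    obtain ⟨y, hy, hyU, hyV⟩ := hZ.2 U V hU hV ⟨w, hw, hwU⟩ ⟨w', hw', hw'V⟩
    exact ⟨⟨y, hZM hy⟩, hy, hyU, hyV⟩
  exact ⟨⟨z, hZM hz⟩, hC.2 hpre (fun w hw => hCZ ⟨w, hw, rfl⟩) hz, rfl⟩

variable {G X : Over (Spec (CommRingCat.of k))} [GrpObj G] (a : AlgGrp.Action G X)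

theorem actIso_image_orbit (σ : 𝟙_ (Over (Spec (CommRingCat.of k))) ⟶ G)
    (x : 𝟙_ (Over (Spec (CommRingCat.of k))) ⟶ X) :
    ⇑(actIso a σ).hom.left '' orbit a x = orbit a x := by
  have h := congrArg (fun f => f.left) (GrpAct.ltrIso_orbitMap a σ x)
  simp only [Over.comp_left] at h
  haveI : IsIso (GrpAct.ltrIso σ).hom.left := ((Over.forget _).mapIso (GrpAct.ltrIso σ)).isIso_hom
  ext y
  constructor
  · rintro ⟨_, ⟨g, rfl⟩, rfl⟩
    exact ⟨(GrpAct.ltrIso σ).hom.left g, congrArg (fun f => f g) h⟩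
  · rintro ⟨g, rfl⟩
    obtain ⟨g', rfl⟩ := (GrpAct.ltrIso σ).hom.left.surjective g
    exact ⟨_, ⟨g', rfl⟩, (congrArg (fun f => f g') h).symm⟩

variable [CharZero k] [IsIntegral G.left] [IsSeparated G.hom] [LocallyOfFiniteType G.hom] [QuasiCompact G.hom]
  [IsIntegral X.left] [IsSeparated X.hom] [LocallyOfFiniteType X.hom] [QuasiCompact X.hom]

/-- The hypothesis that `Y` meets an orbit closure properly. -/
def Proper' (Y : Set X.left) (n r : ℕ) : Prop :=
  ∀ (x : 𝟙_ (Over (Spec (CommRingCat.of k))) ⟶ X) (d : ℕ),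
    topologicalKrullDim ↥(closure (Set.range ⇑(a.orbitMap x).left.base)) = d →
      ∀ C ∈ irreducibleComponents ↥(Y ∩ closure (Set.range ⇑(a.orbitMap x).left.base)),
        n ≤ r + d ∧ topologicalKrullDim ↥C = ((r + d - n : ℕ) : WithBot ℕ∞)

omit [IsAlgClosed k] [CharZero k] in
theorem exists_dim_closure (x : 𝟙_ (Over (Spec (CommRingCat.of k))) ⟶ X) {n : ℕ}
    (hn : topologicalKrullDim X.left = n) :
    ∃ d : ℕ, d ≤ n ∧ topologicalKrullDim ↥(closure (orbit a x)) = d := by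
  have h1 : topologicalKrullDim ↥(closure (orbit a x)) ≤ (n : WithBot ℕ∞) :=
    (topologicalKrullDim_subspace_le _ _).trans hn.le
  haveI : Nonempty ↥(closure (orbit a x)) :=
    ⟨⟨_, subset_closure ⟨η[G].left (IsLocalRing.closedPoint k), rfl⟩⟩⟩
  haveI : Nonempty (IrreducibleCloseds ↥(closure (orbit a x))) :=
    ⟨⟨irreducibleComponent (Classical.arbitrary _), isIrreducible_irreducibleComponent,
      isClosed_irreducibleComponent⟩⟩
  have h0 : (0 : WithBot ℕ∞) ≤ topologicalKrullDim ↥(closure (orbit a x)) := Order.krullDim_nonneg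
  generalize topologicalKrullDim ↥(closure (orbit a x)) = D at h0 h1 ⊢
  induction D with
  | bot => exact absurd h0 (by simp)
  | coe D =>
    induction D with
    | top =>
      exact absurd (WithBot.coe_le_coe.1 (show ((⊤ : ℕ∞) : WithBot ℕ∞) ≤ ((n : ℕ∞) : WithBot ℕ∞) from h1))
        (by simp)
    | coe e => exact ⟨e, by exact_mod_cast h1, rfl⟩

theorem orbit_eq_of_mem {x x' : 𝟙_ (Over (Spec (CommRingCat.of k))) ⟶ X} {p : X.left}
    (h : p ∈ orbit a x) (h' : p ∈ orbit a x') : orbit a x = orbit a x' := by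
  haveI : QuasiSeparatedSpace X.left := quasiSeparatedSpace_of_quasiSeparated X.hom
  haveI : JacobsonSpace X.left := LocallyOfFiniteType.jacobsonSpace X.hom
  obtain ⟨q, ⟨hq, hq'⟩, hqc⟩ := nonempty_inter_closedPoints (Z := orbit a x ∩ orbit a x') ⟨p, h, h'⟩
    ((GrpAct.isLocallyClosed_orbit' a x).inter (GrpAct.isLocallyClosed_orbit' a x'))
  obtain ⟨y, rfl⟩ := exists_rpt hqc
  haveI : JacobsonSpace G.left := LocallyOfFiniteType.jacobsonSpace G.hom
  have key : ∀ x₀ : 𝟙_ (Over (Spec (CommRingCat.of k))) ⟶ X, rpt y ∈ orbit a x₀ →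
      orbit a y = orbit a x₀ := by
    intro x₀ hy
    obtain ⟨g, hg⟩ := hy
    obtain ⟨g', hg', hgc⟩ := nonempty_inter_closedPoints (Z := (a.orbitMap x₀).left ⁻¹' {rpt y}) ⟨g, hg⟩
      ((mem_closedPoints_iff.1 (rpt_mem_closedPoints y)).preimage (a.orbitMap x₀).left.continuous).isLocallyClosed
    obtain ⟨σ, rfl⟩ := exists_rpt hgc
    have e : σ ≫ a.orbitMap x₀ = y := rpt_injective ((map_rpt _ σ).symm.trans hg')
    let r : G ⟶ G := 𝟙 G * (toUnit G ≫ σ)
    let r' : G ⟶ G := 𝟙 G * (toUnit G ≫ σ⁻¹)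
    have hr : r' ≫ r = 𝟙 G := by
      simp only [r, r', MonObj.comp_mul, Category.comp_id, comp_toUnit_assoc]
      rw [_root_.mul_assoc, ← MonObj.comp_mul, inv_mul_cancel, MonObj.comp_one, _root_.mul_one]
    have h1 : a.orbitMap y = r ≫ a.orbitMap x₀ := by
      rw [GrpAct.comp_orbitMap a x₀ r, GrpAct.mul_smul, AlgGrp.Action.orbitMap, ← e, GrpAct.comp_orbitMap,
        toUnit_unique (toUnit (𝟙_ _)) (𝟙 _), Category.id_comp, GrpAct.comp_smul]
    apply subset_antisymm
    · rintro _ ⟨g, rfl⟩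
      rw [h1]
      exact ⟨r.left g, rfl⟩
    · rintro _ ⟨g, rfl⟩
      refine ⟨r'.left g, ?_⟩
      rw [h1, ← Scheme.Hom.comp_apply, ← Over.comp_left, ← Category.assoc, hr, Category.id_comp]
  exact (key x hq).symm.trans (key x' hq')

theorem exists_mem_orbit (hfin : Set.Finite {S : Set ↥X.left | ∃ x : 𝟙_ (Over (Spec (CommRingCat.of k))) ⟶ X,
    S = Set.range ⇑(a.orbitMap x).left.base}) (p : X.left) : ∃ x, p ∈ orbit a x := by
  classical
  haveI : QuasiSeparatedSpace X.left := quasiSeparatedSpace_of_quasiSeparated X.hom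
  haveI : JacobsonSpace X.left := LocallyOfFiniteType.jacobsonSpace X.hom
  have key : ∀ 𝒮 : Finset (Set X.left), (∀ S ∈ 𝒮, IsLocallyClosed S) → p ∉ ⋃₀ (↑𝒮 : Set (Set X.left)) →
      ∃ L : Set X.left, IsLocallyClosed L ∧ p ∈ L ∧ ∀ S ∈ 𝒮, Disjoint L S := by
    intro 𝒮
    induction 𝒮 using Finset.induction_on with
    | empty => exact fun _ _ => ⟨Set.univ, isOpen_univ.isLocallyClosed, trivial, by simp⟩
    | insert S 𝒮 _ ih =>
      intro hl hp
      simp only [Finset.coe_insert, Set.sUnion_insert, Set.mem_union, not_or] at hp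
      obtain ⟨L, hL, hpL, hd⟩ := ih (fun T hT => hl T (Finset.mem_insert_of_mem hT)) hp.2
      obtain ⟨U, C, hU, hC, rfl⟩ := hl S (Finset.mem_insert_self _ _)
      by_cases hpU : p ∈ U
      · refine ⟨L ∩ Cᶜ, hL.inter hC.isOpen_compl.isLocallyClosed, ⟨hpL, fun h => hp.1 ⟨hpU, h⟩⟩, fun T hT => ?_⟩
        rcases Finset.mem_insert.1 hT with rfl | hT
        · exact Set.disjoint_left.2 fun z hz hz' => hz.2 hz'.2
        · exact (hd T hT).mono_left Set.inter_subset_left
      · refine ⟨L ∩ Uᶜ, hL.inter hU.isClosed_compl.isLocallyClosed, ⟨hpL, hpU⟩, fun T hT => ?_⟩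
        rcases Finset.mem_insert.1 hT with rfl | hT
        · exact Set.disjoint_left.2 fun z hz hz' => hz.2 hz'.1
        · exact (hd T hT).mono_left Set.inter_subset_left
  by_contra hne
  obtain ⟨L, hL, hpL, hd⟩ := key hfin.toFinset (fun S hS => by
      obtain ⟨x, rfl⟩ := hfin.mem_toFinset.1 hS
      exact GrpAct.isLocallyClosed_orbit' a x) (by
      rintro ⟨S, hS, hp⟩
      obtain ⟨x, rfl⟩ := hfin.mem_toFinset.1 (Finset.mem_coe.1 hS)
      exact hne ⟨x, hp⟩)
  obtain ⟨z, hz, hzc⟩ := nonempty_inter_closedPoints ⟨p, hpL⟩ hL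
  obtain ⟨y, rfl⟩ := exists_rpt hzc
  refine Set.disjoint_left.1 (hd (orbit a y) (hfin.mem_toFinset.2 ⟨y, rfl⟩)) hz ⟨rpt (1 : 𝟙_ _ ⟶ G), ?_⟩
  rw [map_rpt, GrpAct.comp_orbitMap, toUnit_unique (toUnit (𝟙_ _)) (𝟙 _), Category.id_comp, GrpAct.one_smul']

/-- Translates meet properly inside one orbit. -/
theorem exists_piece (Y₁ Y₂ : Set X.left) (h₁c : IsClosed Y₁) (h₂c : IsClosed Y₂) (n r s : ℕ)
    (hn : topologicalKrullDim X.left = n) (h₁ : Proper' a Y₁ n r) (h₂ : Proper' a Y₂ n s)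
    (x : 𝟙_ (Over (Spec (CommRingCat.of k))) ⟶ X) :
    ∃ V : G.left.Opens, (V : Set G.left).Nonempty ∧
      ∀ σ : 𝟙_ (Over (Spec (CommRingCat.of k))) ⟶ G, Set.range ⇑σ.left.base ⊆ (V : Set ↥G.left) →
        ∀ p ∈ ⇑(actIso a σ).hom.left.base '' Y₁ ∩ Y₂ ∩ orbit a x, ∀ d : ℕ,
          topologicalKrullDim ↥(closure (orbit a x)) = d →
          2 * n ≤ r + s + d ∧
            topologicalKrullDim ↥(closure ({p} : Set X.left)) ≤ ((r + s + d - 2 * n : ℕ) : WithBot ℕ∞) := by
  classical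
  haveI : GrpObj (Over.mk G.hom) := inferInstanceAs (GrpObj G)
  haveI : Smooth G.hom := Cartier.smooth_of_charZero G.hom
  haveI : QuasiSeparatedSpace X.left := quasiSeparatedSpace_of_quasiSeparated X.hom
  haveI : IsLocallyNoetherian X.left := LocallyOfFiniteType.isLocallyNoetherian X.hom
  haveI : CompactSpace X.left := QuasiCompact.compactSpace_of_compactSpace X.hom
  haveI : IsNoetherian X.left := {}
  haveI : IrreducibleSpace G.left := inferInstance
  obtain ⟨d, hdn, hd⟩ := exists_dim_closure a x hn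
  have hlc := GrpAct.isLocallyClosed_orbit' a x
  obtain ⟨O₀, j, hj, hred, hjr⟩ := GrpAct.exists_reduced_subscheme hlc
  let O : Over (Spec (CommRingCat.of k)) := Over.mk (j ≫ X.hom)
  let jO : O ⟶ X := Over.homMk j
  haveI : IsImmersion jO.left := hj
  haveI : IsReduced O.left := hred
  haveI : LocallyOfFiniteType O.hom := inferInstanceAs (LocallyOfFiniteType (j ≫ X.hom))
  haveI : IsSeparated O.hom := inferInstanceAs (IsSeparated (j ≫ X.hom))
  haveI : NoetherianSpace X.left := inferInstance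
  haveI : NoetherianSpace O₀ := jO.left.isEmbedding.isInducing.noetherianSpace
  haveI : QuasiCompact j := quasiCompact_of_noetherianSpace_source j
  haveI : QuasiCompact O.hom := inferInstanceAs (QuasiCompact (j ≫ X.hom))
  haveI : Mono jO := (Over.forget _).mono_of_mono_map (inferInstanceAs (Mono jO.left))
  have hjO : Set.range jO.left = orbit a x := hjr
  obtain ⟨b, o, hb, ho, hφ⟩ := GrpAct.exists_action a x jO hjO
  haveI hsurj : Surjective (b.orbitMap o).left := ⟨fun z => by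
    obtain ⟨g, hg⟩ : jO.left z ∈ orbit a x := hjO ▸ ⟨z, rfl⟩
    refine ⟨g, jO.left.isEmbedding.injective ?_⟩
    rw [← Scheme.Hom.comp_apply, ← Over.comp_left, hφ, hg]⟩
  haveI : IrreducibleSpace O.left := by
    haveI : Nonempty O.left := ⟨(b.orbitMap o).left (η[G].left (IsLocalRing.closedPoint k))⟩
    haveI : PreirreducibleSpace O.left := ⟨by
      rw [← hsurj.surj.range_eq, ← Set.image_univ]
      exact ((IrreducibleSpace.isIrreducible_univ G.left).image _ (b.orbitMap o).left.continuous.continuousOn).2⟩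
    exact ⟨inferInstance⟩
  haveI : IsIntegral O.left := isIntegral_of_irreducibleSpace_of_isReduced O.left
  have htrans : ∀ y y' : 𝟙_ (Over (Spec (CommRingCat.of k))) ⟶ O,
      ∃ σ : 𝟙_ (Over (Spec (CommRingCat.of k))) ⟶ G, lift σ y ≫ b.act = y' := by
    intro y y'
    obtain ⟨g, hg⟩ := Chev.Borel.exists_rp_preimage (b.orbitMap o) y
    obtain ⟨g', hg'⟩ := Chev.Borel.exists_rp_preimage (b.orbitMap o) y'
    refine ⟨g' * g⁻¹, ?_⟩
    rw [GrpAct.comp_orbitMap, toUnit_unique (toUnit (𝟙_ _)) (𝟙 _), Category.id_comp] at hg hg'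
    rw [← hg, ← GrpAct.mul_smul, _root_.mul_assoc, inv_mul_cancel, _root_.mul_one, hg']
  have hdimO : topologicalKrullDim O.left = (d : WithBot ℕ∞) := by
    rw [← hd, AgfOrbitDim.dim_closure_orbit a x]
    exact (jO.left.isEmbedding.toHomeomorph.trans (Homeomorph.setCongr hjO)).isHomeomorph.topologicalKrullDim_eq
  -- components of `Y ∩ closure O` meeting the orbit
  have hpiece : ∀ (Y : Set X.left), IsClosed Y → ∀ t : ℕ, Proper' a Y n t →
      ∃ 𝒜 : Set (Set O.left), 𝒜.Finite ∧ (∀ A ∈ 𝒜, IsClosed A ∧ IsIrreducible A ∧ n ≤ t + d ∧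
          topologicalKrullDim ↥A = ((t + d - n : ℕ) : WithBot ℕ∞)) ∧
        ∀ z : O.left, jO.left z ∈ Y → ∃ A ∈ 𝒜, z ∈ A := by
    intro Y hY t ht
    set M := Y ∩ closure (orbit a x) with hMdef
    have hM : IsClosed M := hY.inter isClosed_closure
    haveI : NoetherianSpace ↥M := inferInstance
    refine ⟨(fun C : Set ↥M => jO.left ⁻¹' (Subtype.val '' C)) ''
        {C | C ∈ irreducibleComponents ↥M ∧ (Subtype.val '' C ∩ orbit a x).Nonempty},
      ((NoetherianSpace.finite_irreducibleComponents (α := ↥M)).subset fun C hC => hC.1).image _, ?_, ?_⟩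
    · rintro _ ⟨C, ⟨hC, q, hqC, hqO⟩, rfl⟩
      obtain ⟨hi, hcl, hCM, -⟩ := irreducibleComponents_val hM hC
      obtain ⟨hnd, hCd⟩ := ht x d hd C hC
      obtain ⟨ζ, hζ⟩ := QuasiSober.sober hi hcl
      have hζO : ζ ∈ orbit a x := by
        obtain ⟨U, K, hU, hK, e⟩ := hlc
        have hq : q ∈ U ∩ K := e ▸ hqO
        have hM' : ζ ∈ closure (orbit a x) := (hCM hζ.mem).2
        rw [e] at hM' ⊢
        exact ⟨(hζ.specializes hqC).mem_open hU hq.1, closure_minimal Set.inter_subset_right hK hM'⟩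
      obtain ⟨z₀, hz₀⟩ : ζ ∈ Set.range jO.left := hjO ▸ hζO
      have e : jO.left ⁻¹' (Subtype.val '' C) = closure {z₀} := by
        rw [← hζ.def, jO.left.isEmbedding.isInducing.closure_eq_preimage_closure_image, Set.image_singleton, hz₀]
      refine ⟨hcl.preimage jO.left.continuous, by dsimp only; rw [e]; exact isIrreducible_singleton.closure, hnd, ?_⟩
      have h1 : topologicalKrullDim ↥(jO.left ⁻¹' (Subtype.val '' C)) =
          topologicalKrullDim ↥(Subtype.val '' C ∩ orbit a x) := by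
        refine ((jO.left.isEmbedding.homeomorphImage _).trans (Homeomorph.setCongr ?_)).isHomeomorph.topologicalKrullDim_eq
        rw [Set.image_preimage_eq_inter_range, hjO]
      rw [h1, ← hCd, ← IsHomeomorph.topologicalKrullDim_eq _
        (Topology.IsEmbedding.subtypeVal.homeomorphImage C).symm.isHomeomorph]
      refine le_antisymm (Topology.IsEmbedding.inclusion Set.inter_subset_left).isInducing.topologicalKrullDim_le ?_
      rw [← hζ.def]
      exact dim_closure_le_inter hlc hζO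
    · intro z hz
      have hzM : jO.left z ∈ M := ⟨hz, subset_closure (hjO ▸ ⟨z, rfl⟩)⟩
      refine ⟨_, ⟨irreducibleComponent (⟨jO.left z, hzM⟩ : ↥M), ⟨irreducibleComponent_mem_irreducibleComponents _,
        jO.left z, ⟨_, mem_irreducibleComponent, rfl⟩, hjO ▸ ⟨z, rfl⟩⟩, rfl⟩, ⟨_, mem_irreducibleComponent, rfl⟩⟩
  obtain ⟨𝒜, h𝒜f, h𝒜, h𝒜c⟩ := hpiece Y₁ h₁c r h₁
  obtain ⟨ℬ, hℬf, hℬ, hℬc⟩ := hpiece Y₂ h₂c s h₂
  have hV : ∀ q : ↥𝒜 × ↥ℬ, ∃ V : G.left.Opens, (V : Set G.left).Nonempty ∧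
      ∀ σ : 𝟙_ (Over (Spec (CommRingCat.of k))) ⟶ G, Set.range ⇑σ.left.base ⊆ (V : Set ↥G.left) →
        ⇑(lift (toUnit O ≫ σ) (𝟙 O) ≫ b.act).left.base '' q.1.1 ∩ q.2.1 = ∅ ∨
        (d ≤ r + d - n + (s + d - n) ∧ ∀ C ∈ irreducibleComponents
            ↥(⇑(lift (toUnit O ≫ σ) (𝟙 O) ≫ b.act).left.base '' q.1.1 ∩ q.2.1),
          topologicalKrullDim ↥C = ((r + d - n + (s + d - n) - d : ℕ) : WithBot ℕ∞)) := fun q =>
    translate_inter_equidim b htrans q.1.1 q.2.1 (h𝒜 _ q.1.2).1 (h𝒜 _ q.1.2).2.1 (hℬ _ q.2.2).1 (hℬ _ q.2.2).2.1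
      d _ _ hdimO (h𝒜 _ q.1.2).2.2.2 (hℬ _ q.2.2).2.2.2
  choose V hVne hV using hV
  haveI := h𝒜f.to_subtype
  haveI := hℬf.to_subtype
  refine ⟨⟨⋂ q, (V q : Set G.left), isOpen_iInter_of_finite fun q => (V q).2⟩, ⟨genericPoint G.left,
      Set.mem_iInter.2 fun q => ((genericPoint_spec G.left).mem_open_set_iff (V q).2).2 (by simpa using hVne q)⟩,
    fun σ hσ p hp d' hd' => ?_⟩
  obtain ⟨⟨⟨y, hy, hyp⟩, hp₂⟩, hpO⟩ := hp
  obtain rfl : d = d' := by rw [hd] at hd'; exact_mod_cast hd'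
  obtain ⟨z, rfl⟩ : p ∈ Set.range jO.left := hjO ▸ hpO
  set tO := lift (toUnit O ≫ σ) (𝟙 O) ≫ b.act
  have hcomm : tO ≫ jO = jO ≫ (actIso a σ).hom := by
    simp only [tO, actIso, Category.assoc, hb, lift_whiskerLeft_assoc, Category.id_comp, GrpAct.comp_smul,
      comp_toUnit_assoc, Category.comp_id]
  have hyO : y ∈ orbit a x := by
    haveI : IsIso (actIso a σ).hom.left := ((Over.forget _).mapIso (actIso a σ)).isIso_hom
    obtain ⟨w, hw, hwy⟩ : (actIso a σ).hom.left y ∈ ⇑(actIso a σ).hom.left '' orbit a x := by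
      rw [actIso_image_orbit]; exact hyp.symm ▸ hpO
    rwa [← (actIso a σ).hom.left.isEmbedding.injective hwy]
  obtain ⟨y', rfl⟩ : y ∈ Set.range jO.left := hjO ▸ hyO
  have hz : tO.left y' = z := jO.left.isEmbedding.injective (by
    rw [← Scheme.Hom.comp_apply, ← Over.comp_left, hcomm]
    exact hyp)
  obtain ⟨A, hA, hyA⟩ := h𝒜c y' hy
  obtain ⟨B, hB, hzB⟩ := hℬc z hp₂
  have hσ' : Set.range ⇑σ.left.base ⊆ (V (⟨A, hA⟩, ⟨B, hB⟩) : Set ↥G.left) :=
    hσ.trans (Set.iInter_subset _ _)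
  have hmem : z ∈ ⇑tO.left.base '' A ∩ B := ⟨⟨y', hyA, hz⟩, hzB⟩
  rcases hV (⟨A, hA⟩, ⟨B, hB⟩) σ hσ' with he | ⟨hle, hC⟩
  · exact absurd (he ▸ hmem : z ∈ (∅ : Set O.left)) (Set.notMem_empty z)
  obtain ⟨-, -, hnA, -⟩ := h𝒜 A hA
  obtain ⟨-, -, hnB, -⟩ := hℬ B hB
  refine ⟨by omega, (dim_closure_le_inter hlc hpO).trans ?_⟩
  rw [show r + s + d - 2 * n = r + d - n + (s + d - n) - d by omega,
    ← hC _ (irreducibleComponent_mem_irreducibleComponents ⟨z, hmem⟩)]
  have h1 : topologicalKrullDim ↥(closure ({jO.left z} : Set X.left) ∩ orbit a x) =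
      topologicalKrullDim ↥(closure ({z} : Set O.left)) := by
    refine (((jO.left.isEmbedding.homeomorphImage _).trans (Homeomorph.setCongr ?_)).isHomeomorph.topologicalKrullDim_eq).symm
    rw [jO.left.isEmbedding.isInducing.closure_eq_preimage_closure_image, Set.image_preimage_eq_inter_range, hjO,
      Set.image_singleton]
  rw [h1]
  haveI : IsIso tO.left := ((Over.forget _).mapIso (actIso b σ)).isIso_hom
  set K := irreducibleComponent (⟨z, hmem⟩ : ↥(⇑tO.left.base '' A ∩ B))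
  obtain ⟨-, hKcl, -, -⟩ := irreducibleComponents_val
    ((tO.left.isClosedEmbedding.isClosedMap _ (h𝒜 A hA).1).inter (hℬ B hB).1)
    (irreducibleComponent_mem_irreducibleComponents (⟨z, hmem⟩ : ↥(⇑tO.left.base '' A ∩ B)))
  have hzK : ({z} : Set O.left) ⊆ Subtype.val '' K :=
    Set.singleton_subset_iff.2 ⟨_, mem_irreducibleComponent, rfl⟩
  refine ((Topology.IsEmbedding.inclusion (closure_minimal hzK hKcl)).isInducing.topologicalKrullDim_le).trans ?_
  exact (IsHomeomorph.topologicalKrullDim_eq _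
    (Topology.IsEmbedding.subtypeVal.homeomorphImage K).symm.isHomeomorph).le

end Groth.Agent.AgfKleiman
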