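import Groth.Agent.AgfKleiman.Orbits
import Groth.Agent.S10830

/-!
General translates meet orbit closures properly.
-/

set_option autoImplicit false
set_option backward.isDefEq.respectTransparency false
set_option linter.style.haveILetI false
set_option linter.unusedSectionVars false

universe u

open CategoryTheory CategoryTheory.Limits MonoidalCategory CartesianMonoidalCategory MonObj AlgebraicGeometry TopologicalSpace
open Groth.Agent.SubGen (rpt exists_rpt map_rpt rpt_mem_closedPoints rpt_injective)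
open Groth.Agent.GrpAct (orbit actIso)
open Groth.Agent

noncomputable section

namespace Groth.Agent.AgfKleiman

variable {k : Type u} [Field k] [IsAlgClosed k]
variable {G X : Over (Spec (CommRingCat.of k))} [GrpObj G] (a : AlgGrp.Action G X)
variable [CharZero k] [IsIntegral G.left] [IsSeparated G.hom] [LocallyOfFiniteType G.hom] [QuasiCompact G.hom]
  [IsIntegral X.left] [IsSeparated X.hom] [LocallyOfFiniteType X.hom] [QuasiCompact X.hom]

theorem actIso_image_closure_orbit (σ : 𝟙_ (Over (Spec (CommRingCat.of k))) ⟶ G)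
    (x : 𝟙_ (Over (Spec (CommRingCat.of k))) ⟶ X) :
    ⇑(actIso a σ).hom.left '' closure (orbit a x) = closure (orbit a x) := by
  haveI : IsIso (actIso a σ).hom.left := ((Over.forget _).mapIso (actIso a σ)).isIso_hom
  rw [← (actIso a σ).hom.left.isClosedEmbedding.closure_image_eq, actIso_image_orbit]

theorem orbit_subset_closure {x x' : 𝟙_ (Over (Spec (CommRingCat.of k))) ⟶ X} {p : X.left}
    (h : p ∈ closure (orbit a x)) (h' : p ∈ orbit a x') : orbit a x' ⊆ closure (orbit a x) := by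
  haveI : JacobsonSpace X.left := LocallyOfFiniteType.jacobsonSpace X.hom
  haveI : JacobsonSpace G.left := LocallyOfFiniteType.jacobsonSpace G.hom
  haveI : QuasiSeparatedSpace X.left := quasiSeparatedSpace_of_quasiSeparated X.hom
  obtain ⟨q, ⟨hq, hq'⟩, hqc⟩ := nonempty_inter_closedPoints (Z := orbit a x' ∩ closure (orbit a x))
    ⟨p, h', h⟩ ((GrpAct.isLocallyClosed_orbit' a x').inter isClosed_closure.isLocallyClosed)
  obtain ⟨y, rfl⟩ := exists_rpt hqc
  have hy : rpt y ∈ orbit a y := ⟨rpt (1 : 𝟙_ _ ⟶ G), by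
    rw [map_rpt, GrpAct.comp_orbitMap, toUnit_unique (toUnit (𝟙_ _)) (𝟙 _), Category.id_comp, GrpAct.one_smul']⟩
  rw [orbit_eq_of_mem a hq hy]
  rintro _ ⟨g, rfl⟩
  refine Set.mem_preimage.1 ((?_ : (Set.univ : Set G.left) ⊆
    (a.orbitMap y).left ⁻¹' closure (orbit a x)) trivial)
  rw [← closure_closedPoints]
  refine closure_minimal (fun g hg => ?_) (isClosed_closure.preimage (a.orbitMap y).left.continuous)
  obtain ⟨σ, rfl⟩ := exists_rpt hg
  have e : σ ≫ a.orbitMap y = y ≫ (actIso a σ).hom := by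
    simp [GrpAct.comp_orbitMap, actIso, GrpAct.comp_smul, toUnit_unique (toUnit (𝟙_ _)) (𝟙 _)]
  rw [Set.mem_preimage, map_rpt, e, ← map_rpt, ← actIso_image_closure_orbit a σ x]
  exact ⟨_, hq', rfl⟩

/-- One open set which works for all orbits. -/
theorem exists_open (hfin : Set.Finite {S : Set ↥X.left | ∃ x : 𝟙_ (Over (Spec (CommRingCat.of k))) ⟶ X,
      S = Set.range ⇑(a.orbitMap x).left.base}) (Y₁ Y₂ : Set X.left) (h₁c : IsClosed Y₁) (h₂c : IsClosed Y₂)
    (n r s : ℕ) (hn : topologicalKrullDim X.left = n) (h₁ : Proper' a Y₁ n r) (h₂ : Proper' a Y₂ n s) :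
    ∃ V : G.left.Opens, (V : Set G.left).Nonempty ∧
      ∀ σ : 𝟙_ (Over (Spec (CommRingCat.of k))) ⟶ G, Set.range ⇑σ.left.base ⊆ (V : Set ↥G.left) →
        ∀ p ∈ ⇑(actIso a σ).hom.left.base '' Y₁ ∩ Y₂, ∀ x, p ∈ orbit a x → ∀ d : ℕ,
          topologicalKrullDim ↥(closure (orbit a x)) = d →
          2 * n ≤ r + s + d ∧
            topologicalKrullDim ↥(closure ({p} : Set X.left)) ≤ ((r + s + d - 2 * n : ℕ) : WithBot ℕ∞) := by
  classical
  have hS : ∀ S : {S // S ∈ hfin.toFinset}, ∃ x, S.1 = orbit a x := fun S => hfin.mem_toFinset.1 S.2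
  choose c hc using hS
  choose V hVne hV using fun S => exists_piece a Y₁ Y₂ h₁c h₂c n r s hn h₁ h₂ (c S)
  refine ⟨⟨⋂ S, (V S : Set G.left), isOpen_iInter_of_finite fun S => (V S).2⟩, ⟨genericPoint G.left,
    Set.mem_iInter.2 fun S => ((genericPoint_spec G.left).mem_open_set_iff (V S).2).2 (by simpa using hVne S)⟩,
    fun σ hσ p hp x hx d hd => ?_⟩
  let S : {S // S ∈ hfin.toFinset} := ⟨orbit a x, hfin.mem_toFinset.2 ⟨x, rfl⟩⟩
  have e : orbit a x = orbit a (c S) := hc S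
  exact hV S σ (hσ.trans (Set.iInter_subset _ S)) p ⟨hp, e ▸ hx⟩ d (by rw [← e]; exact hd)

theorem closure_orbit_eq_univ {x : 𝟙_ (Over (Spec (CommRingCat.of k))) ⟶ X} {n : ℕ}
    (hn : topologicalKrullDim X.left = n) (hd : topologicalKrullDim ↥(closure (orbit a x)) = n) :
    closure (orbit a x) = Set.univ := by
  by_contra hne
  have hlt := Groth.Agent.S10830.result X.left (by
    rw [hn]; exact fun h => ENat.natCast_ne_top n (WithBot.coe_inj.1 h)) _ isClosed_closure hne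
  rw [hd, hn] at hlt
  exact lt_irrefl _ hlt

theorem isOpen_orbit {x : 𝟙_ (Over (Spec (CommRingCat.of k))) ⟶ X}
    (h : closure (orbit a x) = Set.univ) : IsOpen (orbit a x) := by
  haveI : QuasiSeparatedSpace X.left := quasiSeparatedSpace_of_quasiSeparated X.hom
  obtain ⟨U, C, hU, hC, e⟩ := GrpAct.isLocallyClosed_orbit' a x
  have : C = Set.univ := Set.eq_univ_of_univ_subset (h ▸ closure_minimal (e ▸ Set.inter_subset_right) hC)
  rw [e, this, Set.inter_univ]
  exact hU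

/-- The dimension of a maximal irreducible subset of a translate intersected with an orbit closure. -/
theorem dim_inter_closure [Smooth X.hom]
    (hfin : Set.Finite {S : Set ↥X.left | ∃ x : 𝟙_ (Over (Spec (CommRingCat.of k))) ⟶ X,
      S = Set.range ⇑(a.orbitMap x).left.base}) (Y₁ Y₂ : Set X.left) (h₁c : IsClosed Y₁) (h₂c : IsClosed Y₂)
    (h₂i : IsIrreducible Y₂) (n r s : ℕ) (hn : topologicalKrullDim X.left = n)
    (hs : topologicalKrullDim ↥Y₂ = s) (h₁ : Proper' a Y₁ n r) (σ : 𝟙_ (Over (Spec (CommRingCat.of k))) ⟶ G)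
    (hσ : ∀ p ∈ ⇑(actIso a σ).hom.left.base '' Y₁ ∩ Y₂, ∀ x, p ∈ orbit a x → ∀ d : ℕ,
          topologicalKrullDim ↥(closure (orbit a x)) = d →
          2 * n ≤ r + s + d ∧
            topologicalKrullDim ↥(closure ({p} : Set X.left)) ≤ ((r + s + d - 2 * n : ℕ) : WithBot ℕ∞))
    (x : 𝟙_ (Over (Spec (CommRingCat.of k))) ⟶ X) (d : ℕ)
    (hd : topologicalKrullDim ↥(closure (orbit a x)) = d)
    (W : Set X.left) (hWi : IsIrreducible W) (hWc : IsClosed W)
    (hWsub : W ⊆ ⇑(actIso a σ).hom.left.base '' Y₁ ∩ Y₂ ∩ closure (orbit a x))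
    (hWmax : ∀ Z : Set X.left, IsIrreducible Z →
      Z ⊆ ⇑(actIso a σ).hom.left.base '' Y₁ ∩ Y₂ ∩ closure (orbit a x) → W ⊆ Z → Z ⊆ W) :
    2 * n ≤ r + s + d ∧ topologicalKrullDim ↥W = ((r + s + d - 2 * n : ℕ) : WithBot ℕ∞) := by
  haveI : IsIso (actIso a σ).hom.left := ((Over.forget _).mapIso (actIso a σ)).isIso_hom
  let t := (actIso a σ).hom.left
  obtain ⟨ζ, hζ⟩ := QuasiSober.sober hWi hWc
  obtain ⟨⟨⟨y, hy, hyζ⟩, hζ₂⟩, hζO⟩ := hWsub hζ.mem
  obtain ⟨x', hx'⟩ := exists_mem_orbit a hfin ζ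
  obtain ⟨d', -, hd'⟩ := exists_dim_closure a x' hn
  have hd'd : d' ≤ d := by
    have h := (Topology.IsEmbedding.inclusion
      (closure_minimal (orbit_subset_closure a hζO hx') isClosed_closure)).isInducing.topologicalKrullDim_le
    rw [hd', hd] at h
    exact_mod_cast h
  obtain ⟨hle, hup⟩ := hσ ζ ⟨⟨y, hy, hyζ⟩, hζ₂⟩ x' hx' d' hd'
  rw [hζ.def] at hup
  have hyO : y ∈ closure (orbit a x) := by
    rw [← actIso_image_closure_orbit a σ x, ← hyζ] at hζO
    obtain ⟨w, hw, hwy⟩ := hζO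
    exact t.isEmbedding.injective hwy ▸ hw
  have hM₁ : IsClosed (Y₁ ∩ closure (orbit a x)) := h₁c.inter isClosed_closure
  let yM : ↥(Y₁ ∩ closure (orbit a x)) := ⟨y, hy, hyO⟩
  obtain ⟨hnd, hZd⟩ := h₁ x d hd _ (irreducibleComponent_mem_irreducibleComponents yM)
  obtain ⟨hZi, hZc, hZsub, -⟩ := irreducibleComponents_val hM₁ (irreducibleComponent_mem_irreducibleComponents yM)
  set Z := (Subtype.val '' irreducibleComponent yM : Set X.left) with hZdef
  have hζZ : ζ ∈ ⇑t '' Z := ⟨y, ⟨yM, mem_irreducibleComponent, rfl⟩, hyζ⟩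
  have htZc : IsClosed (⇑t '' Z) := t.isClosedEmbedding.isClosedMap _ hZc
  have htZi : IsIrreducible (⇑t '' Z) := hZi.image _ t.continuous.continuousOn
  have htZd : topologicalKrullDim ↥(⇑t '' Z) = ((r + d - n : ℕ) : WithBot ℕ∞) := by
    rw [← hZd, ← (t.isEmbedding.homeomorphImage Z).isHomeomorph.topologicalKrullDim_eq,
      ← (Topology.IsEmbedding.subtypeVal.homeomorphImage (irreducibleComponent yM)).isHomeomorph.topologicalKrullDim_eq]
  have hWin : W ⊆ ⇑t '' Z ∩ Y₂ := by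
    rw [← hζ.def]
    exact closure_minimal (Set.singleton_subset_iff.2 ⟨hζZ, hζ₂⟩) (htZc.inter h₂c)
  obtain ⟨K, hK, hWK⟩ : ∃ K ∈ irreducibleComponents ↥(⇑t '' Z ∩ Y₂), Subtype.val ⁻¹' W ⊆ K := by
    obtain ⟨K, hK₁, hK₂, hK₃⟩ := exists_preirreducible (Subtype.val ⁻¹' W : Set ↥(⇑t '' Z ∩ Y₂)) (by
      rintro _ _ ⟨U, hU, rfl⟩ ⟨V, hV, rfl⟩ ⟨w, hw, hwU⟩ ⟨w', hw', hw'V⟩
      obtain ⟨y, hy, hyU, hyV⟩ := hWi.2 U V hU hV ⟨w, hw, hwU⟩ ⟨w', hw', hw'V⟩
      exact ⟨⟨y, hWin hy⟩, hy, hyU, hyV⟩)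
    exact ⟨K, ⟨⟨⟨⟨ζ, hζZ, hζ₂⟩, hK₂ hζ.mem⟩, hK₁⟩, fun u hu hKu => (hK₃ u hu.2 hKu).le⟩, hK₂⟩
  have hKW : Subtype.val '' K ⊆ W := by
    refine hWmax _ (hK.1.image _ continuous_subtype_val.continuousOn) ?_
      fun w hw => ⟨⟨w, hWin hw⟩, hWK hw, rfl⟩
    rintro _ ⟨⟨z, ⟨w, hw, rfl⟩, hz₂⟩, -, rfl⟩
    refine ⟨⟨⟨w, (hZsub hw).1, rfl⟩, hz₂⟩, ?_⟩
    rw [← actIso_image_closure_orbit a σ x]
    exact ⟨w, (hZsub hw).2, rfl⟩
  have hlow : ((r + d - n + s : ℕ) : WithBot ℕ∞) ≤ topologicalKrullDim ↥W + (n : WithBot ℕ∞) := by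
    refine (Groth.Agent.S19416.result k X.left X.hom n _ s hn _ _ htZc htZi h₂c h₂i htZd hs K hK).trans ?_
    refine add_le_add ?_ le_rfl
    rw [(Topology.IsEmbedding.subtypeVal.homeomorphImage K).isHomeomorph.topologicalKrullDim_eq]
    exact (Topology.IsEmbedding.inclusion hKW).isInducing.topologicalKrullDim_le
  refine ⟨by omega, le_antisymm (hup.trans (by exact_mod_cast (by omega : r + s + d' - 2 * n ≤ r + s + d - 2 * n))) ?_⟩
  generalize topologicalKrullDim ↥W = D at hlow hup ⊢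
  induction D with
  | bot => simp at hlow
  | coe D =>
    induction D with
    | top => exact le_top
    | coe e =>
      have h' : ((r + d - n + s : ℕ) : WithBot ℕ∞) ≤ ((e + n : ℕ) : WithBot ℕ∞) := by
        rw [Nat.cast_add e n]; exact hlow
      have h : r + d - n + s ≤ e + n := Nat.cast_le.1 h'
      show ((r + s + d - 2 * n : ℕ) : WithBot ℕ∞) ≤ ((e : ℕ) : WithBot ℕ∞)
      exact Nat.cast_le.2 (by omega)

end Groth.Agent.AgfKleiman
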